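import Groth.Prelude.Def_AlgEqCyc
import Groth.Agent.TwistFlat.Base

/-!
# Two points on a curve in `X` differ by an algebraically trivial cycle
-/

set_option linter.style.haveILetI false
set_option backward.isDefEq.respectTransparency false
set_option backward.isDefEq.respectTransparency.types false
universe u

open AlgebraicGeometry CategoryTheory CategoryTheory.Limits AlgEqCyc

namespace Groth.Agent.H9AlgEq

theorem isElemAlgTriv_of_section {k : Type u} [Field k] {X : Scheme.{u}} [DecidableEq ↥X]
    (p : X ⟶ Spec (CommRingCat.of k)) {C : Scheme.{u}} (q : C ⟶ Spec (CommRingCat.of k))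
    (ι : C ⟶ X) (hq : ι ≫ p = q)
    (hΔ : IsClosedImmersion (pullback.lift ι (𝟙 C) (by rw [hq, Category.id_comp]) : C ⟶ pullback p q))
    (hs : Smooth q)
    (hp : Neron.IsProjectiveOver k (Over.mk q)) (hi : IsIntegral C) (hd : topologicalKrullDim ↥C = 1)
    (P₁ P₂ : Spec (CommRingCat.of k) ⟶ C) (h₁ : P₁ ≫ q = 𝟙 _) (h₂ : P₂ ≫ q = 𝟙 _) :
    AlgEqCyc.IsElemAlgTriv p
      (Function.locallyFinsuppWithin.single (ι (P₁ (IsLocalRing.closedPoint k))) (1 : ℤ) -
        Function.locallyFinsuppWithin.single (ι (P₂ (IsLocalRing.closedPoint k))) (1 : ℤ)) := by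
  classical
  haveI : IsProper q := by
    obtain ⟨n, ι, hι, hcomp⟩ := hp
    haveI : IsProper (CohB1.ProjSpaceOver.toBase n (Spec (CommRingCat.of k))) :=
      Groth.Agent.TwistFlat.isProper_toBase n
    rw [show q = ι ≫ CohB1.ProjSpaceOver.toBase n (Spec (CommRingCat.of k)) from hcomp.symm]
    infer_instance
  let Δ : C ⟶ pullback p q := pullback.lift ι (𝟙 C) (by rw [hq, Category.id_comp])
  haveI : IsClosedImmersion Δ := hΔ
  have hΔs : Δ ≫ pullback.snd p q = 𝟙 C := pullback.lift_snd _ _ _
  let η := genericPoint C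
  let W : AlgebraicCycle (pullback p q) ℤ := Function.locallyFinsuppWithin.single (Δ η) 1
  refine ⟨C, q, hs, hp, hi, hd, W, ?_, P₁, P₂, h₁, h₂, ?_⟩
  · intro w hw
    have : w = Δ η := by
      by_contra h
      exact hw (by simp [W, h])
    subst this
    have e : pullback.snd p q (Δ η) = η := by
      rw [← Scheme.Hom.comp_apply, hΔs]
      rfl
    rw [e]
    exact (genericPoint_spec C)
  have hkey : ∀ (t : Spec (CommRingCat.of k) ⟶ C) (ht : t ≫ q = 𝟙 _) (x : X),
      AlgEqCyc.fibreFun p q W t ht x = if x = ι (t (IsLocalRing.closedPoint k)) then 1 else 0 := by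
    intro t ht x
    set z := t (IsLocalRing.closedPoint k) with hz
    have hzs : AlgEqCyc.slice p q t ht (ι z) = Δ z := by
      have htt : t ≫ ι ≫ AlgEqCyc.slice p q t ht = t ≫ Δ := by
        apply pullback.hom_ext <;> simp [AlgEqCyc.slice, Δ, reassoc_of% hq, reassoc_of% ht]
      rw [hz, ← Scheme.Hom.comp_apply, ← Scheme.Hom.comp_apply, ← Scheme.Hom.comp_apply, htt]
    have honly : ∀ {w}, W w ≠ 0 → w ⤳ AlgEqCyc.slice p q t ht x → x = ι z ∧ w = Δ η := by
      intro w hw hsp
      have : w = Δ η := by
        by_contra h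
        exact hw (by simp [W, h])
      subst this
      obtain ⟨c, hc⟩ := hsp.mem_closed Δ.isClosedEmbedding.isClosed_range ⟨η, rfl⟩
      have h1 : pullback.fst p q (Δ c) = ι c := by
        rw [← Scheme.Hom.comp_apply, pullback.lift_fst]
      have h2 : pullback.snd p q (Δ c) = c := by
        rw [← Scheme.Hom.comp_apply, hΔs]
        rfl
      rw [hc] at h1 h2
      have h3 : pullback.fst p q (AlgEqCyc.slice p q t ht x) = x := by
        rw [← Scheme.Hom.comp_apply, AlgEqCyc.slice, pullback.lift_fst]
        rfl
      have h4 : pullback.snd p q (AlgEqCyc.slice p q t ht x) = z := by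
        rw [← Scheme.Hom.comp_apply, AlgEqCyc.slice, pullback.lift_snd, Scheme.Hom.comp_apply]
        exact congrArg t (Subsingleton.elim (α := PrimeSpectrum k) _ _)
      exact ⟨(h3.symm.trans h1).trans (congrArg ι (h2.symm.trans h4)), rfl⟩
    unfold AlgEqCyc.fibreFun
    split_ifs with hxz
    · subst hxz
      have hsp : Δ η ⤳ AlgEqCyc.slice p q t ht (ι z) := by
        rw [hzs]
        exact (genericPoint_specializes z).map Δ.continuous
      letI : Unique {w : ↥(pullback p q) // W w ≠ 0 ∧ w ⤳ AlgEqCyc.slice p q t ht (ι z)} :=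
        { default := ⟨Δ η, by simp [W], hsp⟩
          uniq := fun w => Subtype.ext (honly w.2.1 w.2.2).2 }
      rw [finsum_unique]
      show W (Δ η) * (AlgEqCyc.fibreMult (pullback.snd p q) (AlgEqCyc.slice p q t ht (ι z)) (Δ η) hsp : ℤ) = 1
      have hW : W (Δ η) = 1 := by simp [W]
      rw [hW, one_mul]
      suffices h : ∀ (v : ↥(pullback p q)) (hv : v = Δ z) (hsp : Δ η ⤳ v),
          AlgEqCyc.fibreMult (pullback.snd p q) v (Δ η) hsp = 1 by
        rw [h _ hzs hsp]; rfl
      rintro v rfl hsp
      let D := (Δ.stalkMap z).hom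
      let s := ((pullback.snd p q).stalkMap (Δ z)).hom
      have hD : Function.Surjective D := Δ.stalkMap_surjective z
      have hker : RingHom.ker (Cyc.specMap (Δ z) (Δ η) hsp) = RingHom.ker D := by
        ext a
        rw [RingHom.mem_ker, RingHom.mem_ker]
        have hg : IsField (C.presheaf.stalk η) := Field.toIsField C.functionField
        letI := hg.toField
        have hj : Function.Injective
            (C.presheaf.stalkSpecializes (genericPoint_specializes z) ≫ C.residue η).hom :=
          (RingHom.injective (C.residue η).hom).comp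
            (IsFractionRing.injective (C.presheaf.stalk z) C.functionField)
        have hcomm : (pullback p q).presheaf.stalkSpecializes hsp ≫ (pullback p q).residue (Δ η) ≫
            Δ.residueFieldMap η =
              Δ.stalkMap z ≫ C.presheaf.stalkSpecializes (genericPoint_specializes z) ≫ C.residue η := by
          rw [Scheme.residue_residueFieldMap, ← Category.assoc, ← Category.assoc,
            Scheme.Hom.stalkSpecializes_stalkMap _ η z (genericPoint_specializes z)]
        have h1 := RingHom.congr_fun (congrArg CommRingCat.Hom.hom hcomm) a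
        change (Δ.residueFieldMap η).hom (Cyc.specMap (Δ z) (Δ η) hsp a) =
          (C.presheaf.stalkSpecializes (genericPoint_specializes z) ≫ C.residue η).hom (D a) at h1
        constructor
        · intro h0
          rw [h0, map_zero] at h1
          exact hj (by rw [← h1, map_zero])
        · intro h0
          rw [h0, map_zero] at h1
          exact (RingHom.injective (Δ.residueFieldMap η).hom) (by rw [h1, map_zero])
      haveI : IsIso (Δ ≫ pullback.snd p q) := by
                rw [hΔs]; infer_instance
      let e := (asIso ((Δ ≫ pullback.snd p q).stalkMap z)).commRingCatIsoToRingEquiv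
      have he : ∀ b, D (s b) = e b := fun b =>
        (RingHom.congr_fun (congrArg CommRingCat.Hom.hom (Scheme.Hom.stalkMap_comp Δ (pullback.snd p q) z)) b).symm
      set I := (IsLocalRing.maximalIdeal (C.presheaf.stalk (pullback.snd p q (Δ z)))).map
        ((Ideal.Quotient.mk (RingHom.ker (Cyc.specMap (Δ z) (Δ η) hsp))).comp s) with hI
      let J : Ideal ((pullback p q).presheaf.stalk (Δ z)) :=
        (IsLocalRing.maximalIdeal (C.presheaf.stalk z)).comap D
      haveI : J.IsMaximal := Ideal.comap_isMaximal_of_surjective D hD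
      have hJ : I.comap (Ideal.Quotient.mk (RingHom.ker (Cyc.specMap (Δ z) (Δ η) hsp))) = J := by
        rw [hI, ← Ideal.map_map, Ideal.comap_map_of_surjective _ Ideal.Quotient.mk_surjective,
          ← RingHom.ker_eq_comap_bot, Ideal.mk_ker, hker]
        refine le_antisymm (sup_le ?_ ?_) ?_
        · rw [Ideal.map_le_iff_le_comap]
          intro b hb
          show D (s b) ∈ IsLocalRing.maximalIdeal _
          rw [he]
          exact fun hu => hb (by simpa using hu.map e.symm)
        · intro a ha
          show D a ∈ IsLocalRing.maximalIdeal _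
          rw [RingHom.mem_ker.1 ha]
          exact zero_mem _
        · intro a ha
          have hb : e.symm (D a) ∈ IsLocalRing.maximalIdeal _ :=
            fun hu => ha (by simpa using hu.map e)
          have h0 : a - s (e.symm (D a)) ∈ RingHom.ker D := by
            rw [RingHom.mem_ker, map_sub, he, RingEquiv.apply_symm_apply, sub_self]
          have : a = s (e.symm (D a)) + (a - s (e.symm (D a))) := by ring
          rw [this]
          exact Submodule.add_mem_sup (Ideal.mem_map_of_mem s hb) h0
      let π : (pullback p q).presheaf.stalk (Δ z) →ₗ[(pullback p q).presheaf.stalk (Δ z)]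
          (Cyc.LocQuot (Δ z) (Δ η) hsp ⧸ I) :=
        { toFun := fun a => Ideal.Quotient.mk I (Ideal.Quotient.mk _ a)
          map_add' := fun a b => by simp
          map_smul' := fun a b => by
            simp only [smul_eq_mul, map_mul, RingHom.id_apply, Algebra.smul_def]
            rfl }
      have hπ : Function.Surjective π := Ideal.Quotient.mk_surjective.comp Ideal.Quotient.mk_surjective
      have hkπ : LinearMap.ker π = J := by
        rw [← hJ]
        ext a
        rw [LinearMap.mem_ker, Ideal.mem_comap]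
        exact Ideal.Quotient.eq_zero_iff_mem
      have hlen : Module.length ((pullback p q).presheaf.stalk (Δ z))
          (Cyc.LocQuot (Δ z) (Δ η) hsp ⧸ I) = 1 := by
        rw [← (π.quotKerEquivOfSurjective hπ).length_eq, Module.length_eq_one_iff, hkπ]
        exact isSimpleModule_iff_isCoatom.2 (Ideal.isMaximal_def.1 inferInstance)
      show (Module.length _ _).toNat = 1
      rw [hlen]
      rfl
    · haveI : IsEmpty {w : ↥(pullback p q) // W w ≠ 0 ∧ w ⤳ AlgEqCyc.slice p q t ht x} :=
        ⟨fun w => hxz (honly w.2.1 w.2.2).1⟩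
      exact finsum_of_isEmpty _
  intro x
  rw [hkey, hkey]
  simp [Pi.single_apply]

theorem isElemAlgTriv_curve {k : Type u} [Field k] {X : Scheme.{u}} [DecidableEq ↥X]
    (p : X ⟶ Spec (CommRingCat.of k)) {C : Scheme.{u}} (q : C ⟶ Spec (CommRingCat.of k))
    (ι : C ⟶ X) [IsClosedImmersion ι] (hq : ι ≫ p = q) (hs : Smooth q)
    (hp : Neron.IsProjectiveOver k (Over.mk q)) (hi : IsIntegral C) (hd : topologicalKrullDim ↥C = 1)
    (P₁ P₂ : Spec (CommRingCat.of k) ⟶ C) (h₁ : P₁ ≫ q = 𝟙 _) (h₂ : P₂ ≫ q = 𝟙 _) :
    AlgEqCyc.IsElemAlgTriv p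
      (Function.locallyFinsuppWithin.single (ι (P₁ (IsLocalRing.closedPoint k))) (1 : ℤ) -
        Function.locallyFinsuppWithin.single (ι (P₂ (IsLocalRing.closedPoint k))) (1 : ℤ)) := by
  refine isElemAlgTriv_of_section p q ι hq ?_ hs hp hi hd P₁ P₂ h₁ h₂
  haveI : IsProper q := by
    obtain ⟨n, ι, hι, hcomp⟩ := hp
    haveI : IsProper (CohB1.ProjSpaceOver.toBase n (Spec (CommRingCat.of k))) :=
      Groth.Agent.TwistFlat.isProper_toBase n
    rw [show q = ι ≫ CohB1.ProjSpaceOver.toBase n (Spec (CommRingCat.of k)) from hcomp.symm]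
    infer_instance
  haveI : IsSeparated (pullback.fst p q) := MorphismProperty.pullback_fst (P := @IsSeparated) p q inferInstance
  haveI : IsClosedImmersion ((pullback.lift ι (𝟙 C) (by rw [hq, Category.id_comp]) : C ⟶ pullback p q) ≫
    pullback.fst p q) := by rw [pullback.lift_fst]; infer_instance
  exact IsClosedImmersion.of_comp _ (pullback.fst p q)

/-- Two points on a parametrised curve in a separated `X`. -/
theorem isElemAlgTriv_map {k : Type u} [Field k] {X : Scheme.{u}} [DecidableEq ↥X]
    (p : X ⟶ Spec (CommRingCat.of k)) [IsSeparated p] {C : Scheme.{u}} (q : C ⟶ Spec (CommRingCat.of k))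
    (ι : C ⟶ X) (hq : ι ≫ p = q) (hs : Smooth q)
    (hp : Neron.IsProjectiveOver k (Over.mk q)) (hi : IsIntegral C) (hd : topologicalKrullDim ↥C = 1)
    (P₁ P₂ : Spec (CommRingCat.of k) ⟶ C) (h₁ : P₁ ≫ q = 𝟙 _) (h₂ : P₂ ≫ q = 𝟙 _) :
    AlgEqCyc.IsElemAlgTriv p
      (Function.locallyFinsuppWithin.single (ι (P₁ (IsLocalRing.closedPoint k))) (1 : ℤ) -
        Function.locallyFinsuppWithin.single (ι (P₂ (IsLocalRing.closedPoint k))) (1 : ℤ)) := by
  refine isElemAlgTriv_of_section p q ι hq ?_ hs hp hi hd P₁ P₂ h₁ h₂
  haveI : IsSeparated (pullback.snd p q) := MorphismProperty.pullback_snd (P := @IsSeparated) p q inferInstance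
  haveI : IsClosedImmersion ((pullback.lift ι (𝟙 C) (by rw [hq, Category.id_comp]) : C ⟶ pullback p q) ≫
    pullback.snd p q) := by rw [pullback.lift_snd]; infer_instance
  exact IsClosedImmersion.of_comp _ (pullback.snd p q)

end Groth.Agent.H9AlgEq
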