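import Groth.Agent.ProjPt.Poly
import Groth.Agent.SegreX.Coord
import Mathlib.RingTheory.Jacobson.Ring

/-!
# A linear form vanishing at a rational point and not at another given point
-/

set_option autoImplicit false
set_option linter.style.haveILetI false
set_option backward.isDefEq.respectTransparency false
set_option backward.isDefEq.respectTransparency.types false

universe u

open AlgebraicGeometry CategoryTheory HomogeneousLocalization MvPolynomial
open Groth.Agent.ProjPt (crd cst X_mem)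

namespace Groth.Agent.H9AlgEq

variable {k : Type u} [Field k] {m : ℕ}

local notation "𝒜" => CohB1.polyGrading m k

theorem iSup_chart : (⨆ i : Fin (m + 1), Proj.basicOpen 𝒜 (X i)) = ⊤ :=
  Proj.iSup_basicOpen_eq_top _ _ (Groth.Agent.SegreX.irrelevant_le_span m k)

/-- For a rational point `t` and another point `Q` there is a linear form vanishing at `t` but
not at `Q`. -/
theorem exists_linForm (t : Spec (CommRingCat.of k) ⟶ CohB1.ProjSpace m k)
    (ht : t ≫ CohB1.ProjSpace.toSpec m k = 𝟙 _) (Q : CohB1.ProjSpace m k)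
    (hne : Q ≠ t (IsLocalRing.closedPoint k)) :
    ∃ ℓ ∈ CohB1.polyGrading m k 1, t (IsLocalRing.closedPoint k) ∉ Proj.basicOpen 𝒜 ℓ ∧
      Q ∈ Proj.basicOpen 𝒜 ℓ := by
  classical
  set P := t (IsLocalRing.closedPoint k) with hP
  obtain ⟨i, hi⟩ := TopologicalSpace.Opens.mem_iSup.1 ((iSup_chart (k := k) (m := m)).ge (trivial : P ∈ ⊤))
  let A := Away 𝒜 (X i : MvPolynomial (Fin (m + 1)) k)
  let a : Spec (CommRingCat.of A) ⟶ CohB1.ProjSpace m k := Proj.awayι 𝒜 (X i) (X_mem i) one_pos
  haveI : IsOpenImmersion a := inferInstanceAs (IsOpenImmersion (Proj.awayι 𝒜 (X i) (X_mem i) one_pos))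
  have hra : a.opensRange = Proj.basicOpen 𝒜 (X i) := Proj.opensRange_awayι 𝒜 (X i) (X_mem i) one_pos
  have hrange : Set.range t ⊆ Set.range a := by
    rintro _ ⟨z, rfl⟩
    rw [show z = IsLocalRing.closedPoint k from Subsingleton.elim (α := PrimeSpectrum k) _ _]
    exact hra.ge hi
  let t' := IsOpenImmersion.lift a t hrange
  obtain ⟨u, hu⟩ : ∃ u : CommRingCat.of A ⟶ CommRingCat.of k, Spec.map u = t' :=
    ⟨Spec.preimage t', Spec.map_preimage _⟩
  have ha : a ≫ CohB1.ProjSpace.toSpec m k = Spec.map (CommRingCat.ofHom (cst i)) := by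
    show Proj.awayι 𝒜 (X i) (X_mem i) one_pos ≫ Proj.toSpecZero 𝒜 ≫ _ = _
    rw [← Category.assoc, Proj.awayι_toSpecZero, ← Spec.map_comp]
    rfl
  have hu1 : u.hom.comp (cst i) = RingHom.id k := by
    have h : Spec.map (CommRingCat.ofHom (cst i) ≫ u) = Spec.map (𝟙 (CommRingCat.of k)) := by
      rw [Spec.map_comp, hu, ← ha, ← Category.assoc, IsOpenImmersion.lift_fac, ht, Spec.map_id]
    exact congrArg CommRingCat.Hom.hom (Spec.map_injective h)
  -- the linear forms
  let c : Fin (m + 1) → k := fun j => u (crd i j)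
  let ℓ : Fin (m + 1) → MvPolynomial (Fin (m + 1)) k := fun j => X j - C (c j) * X i
  have hℓ : ∀ j, ℓ j ∈ CohB1.polyGrading m k 1 := fun j =>
    sub_mem (X_mem j) ((mem_homogeneousSubmodule _ _).2 (isHomogeneous_C_mul_X _ _))
  have hloc : ∀ j, Away.isLocalizationElem (X_mem (R := k) i) (hℓ j) = crd i j - cst i (c j) := fun j => by
    show Away.mk 𝒜 (X_mem i) 1 (ℓ j ^ 1) _ = _
    simp only [pow_one]
    rw [ProjPt.mk_eq_eval, map_sub, map_mul, eval₂Hom_X', eval₂Hom_C, eval₂Hom_X', ProjPt.crd_self, mul_one]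
  have hpre : ∀ (j) (q : Spec (CommRingCat.of A)), a q ∈ Proj.basicOpen 𝒜 (ℓ j) ↔
      crd i j - cst i (c j) ∉ (q : PrimeSpectrum A).asIdeal := fun j q => by
    have h := Proj.awayι_preimage_basicOpen 𝒜 (X_mem i) one_pos (hℓ j)
    rw [← hloc j]
    exact SetLike.ext_iff.1 (h one_pos) q
  have hPℓ : ∀ j, P ∉ Proj.basicOpen 𝒜 (ℓ j) := fun j hj => by
    have h1 : a (Spec.map u (IsLocalRing.closedPoint k)) = P := by
      rw [hu, ← Scheme.Hom.comp_apply, IsOpenImmersion.lift_fac, hP]
    rw [← h1, hpre] at hj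
    refine hj ?_
    show u (crd i j - cst i (c j)) ∈ IsLocalRing.maximalIdeal k
    rw [map_sub, show u (cst i (c j)) = c j from RingHom.congr_fun hu1 (c j), sub_self]
    exact zero_mem _
  by_contra hcon
  push Not at hcon
  have hQℓ : ∀ j, Q ∉ Proj.basicOpen 𝒜 (ℓ j) := fun j => hcon _ (hℓ j) (hPℓ j)
  -- `Q` lies in the chart
  have hQi : Q ∈ Proj.basicOpen 𝒜 (X i) := by
    obtain ⟨j, hj⟩ := TopologicalSpace.Opens.mem_iSup.1 ((iSup_chart (k := k) (m := m)).ge (trivial : Q ∈ ⊤))
    by_contra h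
    rw [Proj.mem_basicOpen] at hj h
    push Not at h
    refine hj ?_
    have h2 := hQℓ j
    rw [Proj.mem_basicOpen, not_not] at h2
    have : (X j : MvPolynomial (Fin (m + 1)) k) = ℓ j + C (c j) * X i := by ring
    rw [this]
    exact add_mem h2 (Ideal.mul_mem_left _ _ h)
  obtain ⟨q, rfl⟩ : Q ∈ Set.range a := hra.ge hQi
  let π : A →+* A ⧸ (q : PrimeSpectrum A).asIdeal := Ideal.Quotient.mk _
  have hπ : π = (π.comp (cst i)).comp u.hom := by
    refine ProjPt.away_ext i _ _ ?_ fun j => ?_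
    · rw [RingHom.comp_assoc, hu1, RingHom.comp_id]
    · have h2 := hQℓ j
      rw [hpre, not_not] at h2
      have := Ideal.Quotient.eq_zero_iff_mem.2 h2
      rw [map_sub, sub_eq_zero] at this
      exact this
  have hker : RingHom.ker u.hom ≤ (q : PrimeSpectrum A).asIdeal := fun x hx => by
    refine Ideal.Quotient.eq_zero_iff_mem.1 ?_
    show π x = 0
    rw [hπ, RingHom.comp_apply, RingHom.mem_ker.1 hx, map_zero]
  haveI : (RingHom.ker u.hom).IsMaximal :=
    RingHom.ker_isMaximal_of_surjective u.hom fun x => ⟨cst i x, RingHom.congr_fun hu1 x⟩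
  have hq : (q : PrimeSpectrum A).asIdeal = RingHom.ker u.hom :=
    ((inferInstance : (RingHom.ker u.hom).IsMaximal).eq_of_le q.isPrime.ne_top hker).symm
  refine hne ?_
  rw [hP, ← IsOpenImmersion.lift_fac a t hrange, Scheme.Hom.comp_apply]
  congr 1
  rw [show IsOpenImmersion.lift a t hrange = Spec.map u from hu.symm]
  refine PrimeSpectrum.ext (hq.trans ?_)
  show RingHom.ker u.hom = (IsLocalRing.maximalIdeal k).comap u.hom
  rw [IsLocalRing.maximalIdeal_eq_bot]
  rfl

end Groth.Agent.H9AlgEq
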