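import Groth.Agent.H9AlgEq.Basic
import Groth.Agent.H9AlgEq.LinForm
import Groth.Agent.Big.HyperConn
import Groth.Agent.AmpleDev.CurvesIn
import Groth.Agent.CurveModel.Basic
import Groth.Agent.PicGlue.ProjSpaceBC
import Mathlib.AlgebraicGeometry.AlgClosed.Basic

/-!
# Closed points of a connected projective scheme are algebraically equivalent
-/

set_option autoImplicit false
set_option linter.style.haveILetI false
set_option backward.isDefEq.respectTransparency false
set_option backward.isDefEq.respectTransparency.types false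
set_option maxHeartbeats 800000

universe u

open AlgebraicGeometry CategoryTheory CategoryTheory.Limits TopologicalSpace AlgEqCyc

namespace Groth.Agent.H9AlgEq

open Groth.Agent

variable {k : Type u} [Field k] [IsAlgClosed k] {X : Scheme.{u}}

open Classical in
/-- `[x] - [y]` is algebraically trivial. -/
def Rel (p : X ⟶ Spec (CommRingCat.of k)) (x y : X) : Prop :=
  Function.locallyFinsuppWithin.single x (1 : ℤ) - Function.locallyFinsuppWithin.single y (1 : ℤ) ∈ algTriv p

omit [IsAlgClosed k] in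
theorem Rel.refl {p : X ⟶ Spec (CommRingCat.of k)} (x : X) : Rel p x x := by
  rw [Rel, sub_self]; exact zero_mem _

omit [IsAlgClosed k] in
theorem Rel.symm {p : X ⟶ Spec (CommRingCat.of k)} {x y : X} (h : Rel p x y) : Rel p y x := by
  rw [Rel, ← neg_sub]; exact neg_mem h

omit [IsAlgClosed k] in
theorem Rel.trans {p : X ⟶ Spec (CommRingCat.of k)} {x y z : X} (h : Rel p x y) (h' : Rel p y z) :
    Rel p x z := by
  rw [Rel, ← sub_add_sub_cancel]; exact add_mem h h'

omit [IsAlgClosed k] in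
theorem dim_le_zero_of_subsingleton {T : Type*} [TopologicalSpace T] [Subsingleton T] :
    topologicalKrullDim T ≤ 0 := by
  haveI : Subsingleton (IrreducibleCloseds T) := ⟨fun a b => IrreducibleCloseds.ext (Set.ext fun x => by
    obtain ⟨y, hy⟩ := a.2.nonempty
    obtain ⟨z, hz⟩ := b.2.nonempty
    exact iff_of_true (Subsingleton.elim y x ▸ hy) (Subsingleton.elim z x ▸ hz))⟩
  exact Order.krullDim_nonpos_of_subsingleton

omit [IsAlgClosed k] in
theorem two_le_of_one_lt {d : WithBot ℕ∞} (h : 1 < d) : 2 ≤ d := by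
  cases d with
  | bot => exact absurd h (by simp)
  | coe e =>
    have h' : (1 : ℕ∞) < e := WithBot.coe_lt_coe.1 h
    refine WithBot.coe_le_coe.2 (?_ : (2 : ℕ∞) ≤ e)
    rw [← one_add_one_eq_two]
    exact Order.add_one_le_of_lt h'

variable [X.Over (Spec (CommRingCat.of k))] [IsProper (X ↘ Spec (CommRingCat.of k))]

local notation "π" => X ↘ Spec (CommRingCat.of k)

/-- Closed points on an integral curve are related. -/
theorem rel_curve {Y : Scheme.{u}} [IsIntegral Y] (i : Y ⟶ X) [IsClosedImmersion i]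
    (hd : topologicalKrullDim Y = 1) {x y : X} (hx : x ∈ Set.range i) (hy : y ∈ Set.range i)
    (hxc : IsClosed ({x} : Set X)) (hyc : IsClosed ({y} : Set X)) : Rel π x y := by
  classical
  letI : Y.Over (Spec (CommRingCat.of k)) := ⟨i ≫ π⟩
  haveI : IsProper (Y ↘ Spec (CommRingCat.of k)) := inferInstanceAs (IsProper (i ≫ π))
  haveI : IsLocallyNoetherian Y := LocallyOfFiniteType.isLocallyNoetherian (Y ↘ Spec (CommRingCat.of k))
  haveI : CompactSpace Y := QuasiCompact.compactSpace_of_compactSpace (Y ↘ Spec (CommRingCat.of k))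
  haveI : IsNoetherian Y := {}
  obtain ⟨hfin, hdom, ⟨V, hVne, hViso⟩, hint, hN⟩ := S1585.result k Y
  haveI := hfin
  haveI := hdom
  haveI := hint
  let N := Curv2.normalization Y
  let ν : N ⟶ Y := Curv2.normalizationι Y
  letI : N.Over (Spec (CommRingCat.of k)) := ⟨ν ≫ (Y ↘ Spec (CommRingCat.of k))⟩
  haveI : IsProper (N ↘ Spec (CommRingCat.of k)) :=
    inferInstanceAs (IsProper (ν ≫ (Y ↘ Spec (CommRingCat.of k))))
  haveI : IsLocallyNoetherian N := LocallyOfFiniteType.isLocallyNoetherian (N ↘ Spec (CommRingCat.of k))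
  haveI : CompactSpace N := QuasiCompact.compactSpace_of_compactSpace (N ↘ Spec (CommRingCat.of k))
  have hνs : Function.Surjective ν := Set.range_eq_univ.1
    (by rw [← ν.isClosedMap.isClosed_range.closure_eq, ν.denseRange.closure_range])
  -- dimension
  have hdN : topologicalKrullDim N = 1 := by
    haveI := hViso
    haveI : Nonempty V := hVne.to_subtype
    haveI : IsIntegral (V : Scheme.{u}) := isIntegral_of_isOpenImmersion V.ι
    haveI : IsDominant V.ι := ⟨(V.isOpen.dense hVne).mono (by rw [Scheme.Opens.range_ι])⟩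
    have hne : ((ν ⁻¹ᵁ V : N.Opens) : Set N).Nonempty := hVne.preimage hνs
    haveI : Nonempty (ν ⁻¹ᵁ V : N.Opens) := hne.to_subtype
    haveI : IsIntegral ((ν ⁻¹ᵁ V : N.Opens) : Scheme.{u}) := isIntegral_of_isOpenImmersion (ν ⁻¹ᵁ V).ι
    haveI : IsDominant (ν ⁻¹ᵁ V).ι := ⟨((ν ⁻¹ᵁ V).isOpen.dense hne).mono (by rw [Scheme.Opens.range_ι])⟩
    rw [CurveModel.topologicalKrullDim_eq (N ↘ Spec (CommRingCat.of k)) (ν ⁻¹ᵁ V).ι, ← hd,
      CurveModel.topologicalKrullDim_eq (Y ↘ Spec (CommRingCat.of k)) V.ι]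
    exact (Scheme.Hom.homeomorph (ν ∣_ V)).isHomeomorph.topologicalKrullDim_eq
  have hsm : Smooth (N ↘ Spec (CommRingCat.of k)) :=
    CurveCohLib.RegularCurve.smooth_of_regular k fun z _ => S9800.result N hN hdN.le z
  obtain ⟨n, c, hc, hcc⟩ := S7645.result k N hdN.le
  obtain ⟨e, he⟩ := PicGlue.exists_projSpace_iso n k
  have hproj : Neron.IsProjectiveOver k (Over.mk (N ↘ Spec (CommRingCat.of k))) := by
    haveI := hc
    exact ⟨n, c ≫ e.hom, inferInstance, (Category.assoc _ _ _).trans ((congrArg (c ≫ ·) he).trans hcc)⟩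
  -- lift the two points
  have hlift : ∀ z ∈ Set.range i, IsClosed ({z} : Set X) →
      ∃ P : Spec (CommRingCat.of k) ⟶ N, P ≫ (N ↘ Spec (CommRingCat.of k)) = 𝟙 _ ∧
        (ν ≫ i) (P (IsLocalRing.closedPoint k)) = z := by
    rintro z ⟨y₀, rfl⟩ hz
    obtain ⟨n₀, rfl⟩ := hνs y₀
    obtain ⟨c, hc, hcc⟩ := (hz.preimage (ν ≫ i).continuous).exists_closed_singleton
      ⟨n₀, show (ν ≫ i) n₀ ∈ ({i (ν n₀)} : Set X) from Scheme.Hom.comp_apply _ _ _⟩
    exact ⟨pointOfClosedPoint _ c hcc, pointOfClosedPoint_comp _ _ _, by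
      rw [pointOfClosedPoint_apply]; exact hc⟩
  obtain ⟨P, hP, rfl⟩ := hlift x hx hxc
  obtain ⟨Q, hQ, rfl⟩ := hlift y hy hyc
  exact AddSubgroup.subset_closure
    (isElemAlgTriv_map π (N ↘ Spec (CommRingCat.of k)) (ν ≫ i) (Category.assoc _ _ _) hsm hproj hint hdN P Q hP hQ)

omit [IsAlgClosed k] in
/-- Gluing along a connected closed set. -/
theorem rel_of_connected [IsNoetherian X] (H : Closeds X) (hH : _root_.IsConnected (H : Set X))
    (hcomp : ∀ S : Closeds X, IsIrreducible (S : Set X) → S ≤ H → ∀ x ∈ S, ∀ y ∈ S,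
      IsClosed ({x} : Set X) → IsClosed ({y} : Set X) → Rel π x y)
    {x y : X} (hx : x ∈ H) (hy : y ∈ H) (hxc : IsClosed ({x} : Set X)) (hyc : IsClosed ({y} : Set X)) :
    Rel π x y := by
  classical
  obtain ⟨S, hSf, hSi, hSe⟩ := NoetherianSpace.exists_finite_set_closeds_irreducible H
  have hle : ∀ T ∈ S, T ≤ H := fun T hT => hSe ▸ le_sSup hT
  have hcov : ∀ z ∈ H, ∃ T ∈ S, z ∈ T := fun z hz => by
    have h : (H : Set X) ⊆ ⋃ T ∈ S, (T : Set X) := by
      rw [hSe]
      intro w hw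
      rw [← hSf.coe_toFinset, ← Finset.sup_id_eq_sSup, Closeds.coe_finset_sup] at hw
      simpa using hw
    simpa using h hz
  let g : Set (Closeds X) := {T ∈ S | ∀ z ∈ T, IsClosed ({z} : Set X) → Rel π x z}
  let A : Set X := ⋃ T ∈ g, (T : Set X)
  let B : Set X := ⋃ T ∈ S \ g, (T : Set X)
  have hA : IsClosed A := (hSf.subset fun T hT => hT.1).isClosed_biUnion fun T _ => T.isClosed
  have hB : IsClosed B := (hSf.subset Set.sdiff_subset).isClosed_biUnion fun T _ => T.isClosed
  obtain ⟨Tx, hTx, hxT⟩ := hcov x hx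
  have hgx : Tx ∈ g := ⟨hTx, fun z hz hzc => hcomp Tx (hSi Tx hTx) (hle Tx hTx) x hxT z hz hxc hzc⟩
  obtain ⟨Ty, hTy, hyT⟩ := hcov y hy
  by_contra hne
  have hgy : Ty ∉ g := fun h => hne (h.2 y hyT hyc)
  obtain ⟨w, -, hwA, hwB⟩ := isPreconnected_closed_iff.1 hH.isPreconnected A B hA hB
    (fun z hz => by
      obtain ⟨T, hT, hzT⟩ := hcov z hz
      by_cases h : T ∈ g
      · exact Or.inl (Set.mem_iUnion₂.2 ⟨T, h, hzT⟩)
      · exact Or.inr (Set.mem_iUnion₂.2 ⟨T, ⟨hT, h⟩, hzT⟩))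
    ⟨x, hx, Set.mem_iUnion₂.2 ⟨Tx, hgx, hxT⟩⟩ ⟨y, hy, Set.mem_iUnion₂.2 ⟨Ty, ⟨hTy, hgy⟩, hyT⟩⟩
  obtain ⟨z, ⟨hzA, hzB⟩, hzc⟩ := (hA.inter hB).exists_closed_singleton ⟨w, hwA, hwB⟩
  obtain ⟨T₁, hT₁, hz₁⟩ := Set.mem_iUnion₂.1 hzA
  obtain ⟨T₂, hT₂, hz₂⟩ := Set.mem_iUnion₂.1 hzB
  exact hT₂.2 ⟨hT₂.1, fun v hv hvc =>
    (hT₁.2 z hz₁ hzc).trans (hcomp T₂ (hSi T₂ hT₂.1) (hle T₂ hT₂.1) z hz₂ v hv hzc hvc)⟩

/-- Closed points of an irreducible closed subset are related. -/
theorem rel_irreducible {m : ℕ} (G : X ⟶ CohB1.ProjSpace m k) [IsClosedImmersion G]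
    (hG : G ≫ CohB1.ProjSpace.toSpec m k = π) [IsNoetherian X] (S : Closeds X) :
    IsIrreducible (S : Set X) → ∀ x ∈ S, ∀ y ∈ S,
      IsClosed ({x} : Set X) → IsClosed ({y} : Set X) → Rel π x y := by
  classical
  induction S using WellFoundedLT.induction with
  | ind S ih =>
  intro hirr x hx y hy hxc hyc
  by_cases hsub : (S : Set X).Subsingleton
  · rw [hsub hx hy]; exact Rel.refl y
  obtain ⟨ξ, hξ⟩ := QuasiSober.sober hirr S.isClosed
  let J := Scheme.IdealSheafData.vanishingIdeal S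
  haveI : IsIntegral J.subscheme := by
    have : S = Closeds.closure {ξ} := Closeds.ext hξ.def.symm
    show IsIntegral (Scheme.IdealSheafData.vanishingIdeal S).subscheme
    rw [this]; exact QCoh.isIntegral_closure_point ξ
  have hJr : Set.range J.subschemeι = (S : Set X) := H23.RedSub.range_vanishingIdeal _
  have hdimJ : topologicalKrullDim J.subscheme = topologicalKrullDim (S : Set X) :=
    AmpleDev.dim_eq_one_of_closedImmersion J.subschemeι hJr
  by_cases hd1 : topologicalKrullDim (S : Set X) = 1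
  · exact rel_curve J.subschemeι (hdimJ.trans hd1) (hJr.ge hx) (hJr.ge hy) hxc hyc
  obtain ⟨C, hCi, hCd, hCS⟩ := AmpleDev.exists_curve (S : Set X) S.isClosed hirr hsub
  haveI := hCi
  have hCr : Set.range C.subschemeι = (C.support : Set X) := C.range_subschemeι
  have hTirr : IsIrreducible (C.support : Set X) := by
    rw [← hCr, ← Set.image_univ]
    exact (IrreducibleSpace.isIrreducible_univ _).image _ C.subschemeι.continuous.continuousOn
  have hTlt : C.support < S := lt_of_le_of_ne hCS fun h => hd1 (h ▸ hCd)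
  have hdS : (2 : WithBot ℕ∞) ≤ topologicalKrullDim (S : Set X) := by
    refine two_le_of_one_lt (lt_of_le_of_ne ?_ (Ne.symm hd1))
    rw [← hCd]
    exact (Topology.IsEmbedding.inclusion hCS).isInducing.topologicalKrullDim_le
  -- every point is related to a point of the curve
  suffices key : ∀ z ∈ S, IsClosed ({z} : Set X) → ∃ w ∈ C.support, IsClosed ({w} : Set X) ∧ Rel π z w by
    obtain ⟨a, ha, hac, hxa⟩ := key x hx hxc
    obtain ⟨b, hb, hbc, hyb⟩ := key y hy hyc
    exact hxa.trans ((ih C.support hTlt hTirr a ha b hb hac hbc).trans hyb.symm)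
  intro z hz hzc
  have hzξ : z ≠ ξ := fun h => hsub (by
    rw [← hξ.def, ← h, hzc.closure_eq]; exact Set.subsingleton_singleton)
  obtain ⟨ℓ, hℓ, hℓz, hℓξ⟩ := exists_linForm (pointOfClosedPoint π z hzc ≫ G)
    (by rw [Category.assoc, hG, pointOfClosedPoint_comp]) (G ξ) (fun h => hzξ (by
      rw [Scheme.Hom.comp_apply, pointOfClosedPoint_apply] at h
      exact (G.isClosedEmbedding.injective h).symm))
  rw [Scheme.Hom.comp_apply, pointOfClosedPoint_apply] at hℓz
  let D : X.Opens := G ⁻¹ᵁ Proj.basicOpen (CohB1.polyGrading m k) ℓ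
  let H : Closeds X := ⟨(S : Set X) ∩ (D : Set X)ᶜ, S.isClosed.inter D.isOpen.isClosed_compl⟩
  letI : J.subscheme.Over (Spec (CommRingCat.of k)) := ⟨J.subschemeι ≫ π⟩
  haveI : IsProper (J.subscheme ↘ Spec (CommRingCat.of k)) := inferInstanceAs (IsProper (J.subschemeι ≫ π))
  have hdimG : (2 : WithBot ℕ∞) ≤ topologicalKrullDim ↥(closure (Set.range (J.subschemeι ≫ G))) := by
    rw [(J.subschemeι ≫ G).isClosedEmbedding.isClosed_range.closure_eq,
      ← AmpleDev.dim_eq_one_of_closedImmersion (J.subschemeι ≫ G) rfl, hdimJ]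
    exact hdS
  have hconn : _root_.IsConnected (H : Set X) := by
    have h := Big.isConnected_preimage_hyperplane k (J.subschemeι ≫ G)
      (by rw [Category.assoc, hG]; rfl) hdimG ℓ hℓ
    have h2 := h.image J.subschemeι J.subschemeι.continuous.continuousOn
    have e : (H : Set X) = J.subschemeι ''
        (((J.subschemeι ≫ G) ⁻¹ᵁ Proj.basicOpen (CohB1.polyGrading m k) ℓ : J.subscheme.Opens) : Set J.subscheme)ᶜ := by
      show (S : Set X) ∩ (D : Set X)ᶜ = _
      rw [← hJr]
      ext w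
      constructor
      · rintro ⟨⟨v, rfl⟩, hv⟩
        exact ⟨v, hv, rfl⟩
      · rintro ⟨v, hv, rfl⟩
        exact ⟨⟨v, rfl⟩, hv⟩
    rw [e]
    exact h2
  have hHS : ∀ T : Closeds X, T ≤ H → T < S := fun T hT =>
    lt_of_le_of_ne (fun w hw => (hT hw).1) fun h => (hT (show ξ ∈ T by rw [h]; exact hξ.mem)).2 hℓξ
  -- the hyperplane meets the curve
  obtain ⟨w₀, hw₀, hw₀D⟩ : ∃ w ∈ C.support, w ∉ D := by
    by_contra hcon
    push Not at hcon
    have hDaff : IsAffineOpen D :=
      (Proj.isAffineOpen_basicOpen _ ℓ hℓ one_pos).preimage G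
    haveI : IsAffine (D : Scheme.{u}) := hDaff
    let l : C.subscheme ⟶ D := IsOpenImmersion.lift D.ι C.subschemeι (by
      rw [Scheme.Opens.range_ι, hCr]; exact hcon)
    haveI : IsClosedImmersion (l ≫ D.ι) := by rw [IsOpenImmersion.lift_fac]; infer_instance
    haveI : IsClosedImmersion l := IsClosedImmersion.of_comp l D.ι
    haveI : IsAffine C.subscheme := isAffine_of_isAffineHom l
    letI : C.subscheme.Over (Spec (CommRingCat.of k)) := ⟨C.subschemeι ≫ π⟩
    haveI : IsProper (C.subschemeι ≫ π) := inferInstance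
    haveI : IsFinite (C.subschemeι ≫ π) :=
      IsFinite.iff_isProper_and_isAffineHom.2 ⟨inferInstance, inferInstance⟩
    haveI : Finite C.subscheme := by
      have h := (C.subschemeι ≫ π).finite_preimage_singleton (IsLocalRing.closedPoint k)
      rw [Set.eq_univ_of_forall (s := (C.subschemeι ≫ π) ⁻¹' {IsLocalRing.closedPoint k})
        fun c => Subsingleton.elim (α := PrimeSpectrum k) _ _] at h
      exact Set.finite_univ_iff.1 h
    haveI : JacobsonSpace C.subscheme := LocallyOfFiniteType.jacobsonSpace (C.subschemeι ≫ π)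
    haveI : Subsingleton C.subscheme := ⟨fun a b => by
      by_contra hab
      obtain ⟨v, -, h1, h2⟩ := (IrreducibleSpace.isIrreducible_univ C.subscheme).2 {a} {b}
        (isOpen_discrete _) (isOpen_discrete _) ⟨a, trivial, rfl⟩ ⟨b, trivial, rfl⟩
      exact hab (h1.symm.trans h2)⟩
    have h0 := dim_le_zero_of_subsingleton (T := C.subscheme)
    rw [AmpleDev.dim_eq_one_of_closedImmersion C.subschemeι hCr, hCd] at h0
    exact absurd h0 (by decide)
  obtain ⟨w, ⟨hwC, hwH⟩, hwc⟩ := (C.support.isClosed.inter D.isOpen.isClosed_compl).exists_closed_singleton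
    ⟨w₀, hw₀, hw₀D⟩
  exact ⟨w, hwC, hwc, rel_of_connected H hconn (fun T hT hTH => ih T (hHS T hTH) hT)
    ⟨hz, hℓz⟩ ⟨hCS hwC, hwH⟩ hzc hwc⟩

/-- Closed points of a connected projective scheme are related. -/
theorem rel_closed {m : ℕ} (G : X ⟶ CohB1.ProjSpace m k) [IsClosedImmersion G]
    (hG : G ≫ CohB1.ProjSpace.toSpec m k = π) [ConnectedSpace X] [IsNoetherian X]
    {x y : X} (hxc : IsClosed ({x} : Set X)) (hyc : IsClosed ({y} : Set X)) : Rel π x y :=
  rel_of_connected ⊤ (by rw [Closeds.coe_top]; exact isConnected_univ)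
    (fun S hS _ => rel_irreducible G hG S hS) (Set.mem_univ x) (Set.mem_univ y) hxc hyc

end Groth.Agent.H9AlgEq
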