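import Groth.Prelude.Def_AlgEqCyc
import Groth.Agent.CycLib.Basic

/-!
# Positivity of the multiplicity of an isolated point of a fibre
-/

set_option autoImplicit false
set_option linter.style.haveILetI false
set_option backward.isDefEq.respectTransparency false
set_option backward.isDefEq.respectTransparency.types false

universe u

open AlgebraicGeometry CategoryTheory

namespace Groth.Agent.H9AlgEq

theorem fibreMult_ne_zero {P C : Scheme.{u}} (g : P ⟶ C) [IsLocallyNoetherian P] (v ξ : P) (h : ξ ⤳ v)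
    (hfib : ∀ z : P, ξ ⤳ z → z ⤳ v → g z = g v → z = v) :
    AlgEqCyc.fibreMult g v ξ h ≠ 0 := by
  classical
  set A := P.presheaf.stalk v
  set s := (g.stalkMap v).hom
  let m := IsLocalRing.maximalIdeal (C.presheaf.stalk (g v))
  set K := RingHom.ker (Cyc.specMap v ξ h)
  set I : Ideal (Cyc.LocQuot v ξ h) := m.map ((Ideal.Quotient.mk K).comp s) with hI
  have hK : K = (CDiv6.primeOf h).asIdeal := CycLib.ker_specMap h
  let q : A →+* Cyc.LocQuot v ξ h ⧸ I := (Ideal.Quotient.mk I).comp (Ideal.Quotient.mk K)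
  have hq : Function.Surjective q := Ideal.Quotient.mk_surjective.comp Ideal.Quotient.mk_surjective
  haveI : IsNoetherianRing (Cyc.LocQuot v ξ h ⧸ I) := isNoetherianRing_of_surjective _ _ q hq
  have hne : Nontrivial (Cyc.LocQuot v ξ h ⧸ I) := by
    rw [Ideal.Quotient.nontrivial_iff]
    intro htop
    have h1 : I ≤ (IsLocalRing.maximalIdeal A).map (Ideal.Quotient.mk K) := by
      rw [hI, Ideal.map_le_iff_le_comap]
      intro x hx
      exact Ideal.mem_map_of_mem _ (fun hu => hx ((isUnit_map_iff s x).1 hu))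
    rw [htop, top_le_iff, ← Ideal.comap_eq_top_iff (f := Ideal.Quotient.mk K),
      Ideal.comap_map_of_surjective _ Ideal.Quotient.mk_surjective, ← RingHom.ker_eq_comap_bot, Ideal.mk_ker,
      sup_eq_left.2 (IsLocalRing.le_maximalIdeal (RingHom.ker_ne_top _))] at h1
    exact (IsLocalRing.maximalIdeal.isMaximal A).ne_top h1
  have hdim : Ring.KrullDimLE 0 (Cyc.LocQuot v ξ h ⧸ I) := by
    refine Ring.krullDimLE_zero_iff.2 fun Q hQ => ?_
    let p : PrimeSpectrum A := ⟨Q.comap q, Ideal.IsPrime.comap q⟩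
    have hp1 : CDiv6.primeOf h ≤ p := fun x hx => by
      show q x ∈ Q
      have h0 : Ideal.Quotient.mk K x = 0 := Ideal.Quotient.eq_zero_iff_mem.2 (hK ▸ hx)
      rw [show q x = Ideal.Quotient.mk I (Ideal.Quotient.mk K x) from rfl, h0, map_zero]
      exact Q.zero_mem
    have hp2 : m ≤ p.asIdeal.comap s := fun x hx => by
      show q (s x) ∈ Q
      rw [show q (s x) = 0 from Ideal.Quotient.eq_zero_iff_mem.2 (Ideal.mem_map_of_mem ((Ideal.Quotient.mk K).comp s) hx)]
      exact Q.zero_mem
    let z := P.fromSpecStalk v p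
    have hz1 : ξ ⤳ z := by
      rw [← CDiv6.fromSpecStalk_primeOf h]
      exact ((PrimeSpectrum.le_iff_specializes _ _).1 hp1).map (P.fromSpecStalk v).continuous
    have hz2 : z ⤳ v := by
      have h1 : p ≤ IsLocalRing.closedPoint A := IsLocalRing.le_maximalIdeal p.isPrime.ne_top
      have h2 := ((PrimeSpectrum.le_iff_specializes _ _).1 h1).map (P.fromSpecStalk v).continuous
      have h3 : P.fromSpecStalk v (IsLocalRing.closedPoint A) = v := Scheme.fromSpecStalk_closedPoint
      exact h3 ▸ h2
    have hz3 : g z = g v := by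
      have e : PrimeSpectrum.comap s p = IsLocalRing.closedPoint (C.presheaf.stalk (g v)) :=
        PrimeSpectrum.ext ((IsLocalRing.maximalIdeal.isMaximal _).eq_of_le
          (Ideal.IsPrime.comap s).ne_top hp2).symm
      show g (P.fromSpecStalk v p) = g v
      rw [← Scheme.Hom.comp_apply, ← Scheme.SpecMap_stalkMap_fromSpecStalk, Scheme.Hom.comp_apply]
      show C.fromSpecStalk (g v) (PrimeSpectrum.comap s p) = g v
      rw [e]
      exact Scheme.fromSpecStalk_closedPoint
    have hpm : p = IsLocalRing.closedPoint A := (P.fromSpecStalk v).isEmbedding.injective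
      ((hfib z hz1 hz2 hz3).trans Scheme.fromSpecStalk_closedPoint.symm)
    haveI : (Q.comap q).IsMaximal := by
      have := congrArg PrimeSpectrum.asIdeal hpm
      show p.asIdeal.IsMaximal
      rw [this]
      exact IsLocalRing.maximalIdeal.isMaximal A
    have := Ideal.map_eq_top_or_isMaximal_of_surjective q hq (I := Q.comap q) inferInstance
    rw [Ideal.map_comap_of_surjective q hq] at this
    exact this.resolve_left hQ.ne_top
  haveI : IsArtinianRing (Cyc.LocQuot v ξ h ⧸ I) :=
    isArtinianRing_iff_isNoetherianRing_krullDimLE_zero.2 ⟨inferInstance, hdim⟩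
  have halg : Function.Surjective (algebraMap A (Cyc.LocQuot v ξ h ⧸ I)) := hq
  haveI : IsArtinian A (Cyc.LocQuot v ξ h ⧸ I) :=
    isArtinian_of_surjective_algebraMap (R := Cyc.LocQuot v ξ h ⧸ I) halg
  haveI : IsNoetherian A (Cyc.LocQuot v ξ h ⧸ I) :=
    isNoetherian_of_surjective (Algebra.linearMap A (Cyc.LocQuot v ξ h ⧸ I)) (LinearMap.range_eq_top.2 halg)
  show (Module.length A (Cyc.LocQuot v ξ h ⧸ I)).toNat ≠ 0
  rw [Ne, ENat.toNat_eq_zero, not_or]
  exact ⟨Module.length_pos.ne', Module.length_ne_top⟩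

end Groth.Agent.H9AlgEq
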